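import Groth.Agent.WEtAmpLib.Basic
import Groth.Agent.S7127
import Groth.Agent.S1233
import Groth.Agent.S9589
import Groth.Agent.WeakBCLib.Main

/-!
# Weakly associated primes along local ind-étale maps
-/

set_option autoImplicit false

universe u

open CategoryTheory CategoryTheory.Limits
open scoped TensorProduct

namespace Groth.Agent.WEtAmpLib

theorem mem_map_ann {D B X : Type u} [CommRing D] [CommRing B] [Algebra D B] [Module.Flat D B]
    [AddCommGroup X] [Module D X] (x : X) (b : B) (hb : b • ((1 : B) ⊗ₜ[D] x) = 0) :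
    b ∈ (Submodule.span D {x}).annihilator.map (algebraMap D B) := by
  set I := (Submodule.span D {x}).annihilator with hI
  let g : (D ⧸ I) →ₗ[D] X := Submodule.liftQ I (LinearMap.toSpanSingleton D X x)
    fun a ha => (Submodule.mem_annihilator_span_singleton _ _).1 ha
  have hg : Function.Injective g := by
    rw [← LinearMap.ker_eq_bot, Submodule.ker_liftQ_eq_bot]
    exact fun a ha => (Submodule.mem_annihilator_span_singleton x a).2 ha
  have h0 : b ⊗ₜ[D] (Submodule.Quotient.mk 1 : D ⧸ I) = 0 :=
    Module.Flat.lTensor_preserves_injective_linearMap (M := B) g hg (by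
      rw [map_zero, LinearMap.lTensor_tmul]
      change b ⊗ₜ[D] ((1 : D) • x) = 0
      rw [one_smul]
      simpa [TensorProduct.smul_tmul'] using hb)
  have h1 := congrArg (TensorProduct.tensorQuotEquivQuotSMul B I) h0
  rw [map_zero, show (Submodule.Quotient.mk 1 : D ⧸ I) = Ideal.Quotient.mk I 1 from rfl,
    TensorProduct.tensorQuotEquivQuotSMul_tmul_mk, one_smul, Submodule.Quotient.mk_eq_zero] at h1
  rwa [Ideal.smul_top_eq_map, Submodule.restrictScalars_mem] at h1

variable (A B : Type u) [CommRing A] [CommRing B] [Algebra A B]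

set_option backward.isDefEq.respectTransparency false in
theorem exists_stage (h : EtPBC.IsIndEtale A B) {ι : Type} [Finite ι] (x : ι → B) :
    ∃ (D : Type u) (_ : CommRing D) (_ : Algebra A D) (π : D →ₐ[A] B),
      Algebra.Etale A D ∧ ∀ i, ∃ y, π y = x i := by
  classical
  obtain ⟨J, _, _, D, t, s, hs, hts⟩ := (IndEtLib.isIndEtale_iff A B).1 h
  have hc := isColimitOfPreserves (forget CommRingCat) hs
  have hsurj : ∀ b : B, ∃ j, ∃ y, (s.app j).hom y = b := fun b =>
    Types.jointly_surjective_of_isColimit hc b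
  choose jf xf hxf using fun i => hsurj (x i)
  haveI := Fintype.ofFinite ι
  obtain ⟨j, hj⟩ := IsFiltered.sup_objs_exists (Finset.univ.image jf)
  letI : Algebra A (D.obj j) := (t.app j).hom.toAlgebra
  let π : (D.obj j : Type u) →ₐ[A] B :=
    { (s.app j).hom with
      commutes' := fun a => congr($((hts j).2).hom a) }
  refine ⟨D.obj j, inferInstance, inferInstance, π, (hts j).1, fun i => ?_⟩
  let a := (hj (Finset.mem_image_of_mem jf (Finset.mem_univ i))).some
  refine ⟨(D.map a).hom (xf i), ?_⟩
  exact (congr($(s.naturality a).hom (xf i))).trans (hxf i)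

/-- Weakly associated maximal ideals correspond along a local ind-étale map. -/
theorem weakAss_indEtale_iff [IsLocalRing A] [IsLocalRing B] [IsLocalHom (algebraMap A B)]
    (h : EtPBC.IsIndEtale A B) (M : Type u) [AddCommGroup M] [Module A M] :
    IsLocalRing.maximalIdeal B ∈ FlatCA.weakAss B (B ⊗[A] M) ↔
      IsLocalRing.maximalIdeal A ∈ FlatCA.weakAss A M := by
  haveI hwe : Algebra.WeaklyEtale A B := IndEtLib.weaklyEtale_of_isIndEtale A B h
  haveI : Module.Flat A B := Algebra.WeaklyEtale.flat
  haveI hlo : (IsLocalRing.maximalIdeal B).LiesOver (IsLocalRing.maximalIdeal A) :=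
    ⟨((((IsLocalRing.local_hom_TFAE (algebraMap A B)).out 0 4 rfl rfl).1 (inferInstance : IsLocalHom (algebraMap A B))) :
      (IsLocalRing.maximalIdeal B).comap (algebraMap A B) = IsLocalRing.maximalIdeal A).symm⟩
  constructor
  swap
  · refine WeakBCLib.baseChange_of_weakAss M _ _ fun Q hQ hQle hQA => le_antisymm hQle fun b hb => ?_
    obtain ⟨D, _, _, π, hD, hπ⟩ := exists_stage A B h (fun _ : Unit => b)
    obtain ⟨y, rfl⟩ := hπ ()
    haveI := hD
    haveI := hQ
    have e : Q.comap π = (IsLocalRing.maximalIdeal B).comap π :=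
      Algebra.QuasiFinite.eq_of_le_of_under_eq (R := A) _ _ (Ideal.comap_mono hQle) (by
        ext a
        simp only [Ideal.mem_comap, AlgHom.commutes, Ideal.under_def]
        rw [← Ideal.mem_comap, hQA]
        exact (iff_of_eq (congrArg (a ∈ ·) hlo.over)))
    exact (iff_of_eq (congrArg (y ∈ ·) e)).2 hb
  rintro ⟨z, hz⟩
  obtain ⟨⟨-, hle⟩, hmin⟩ := hz
  obtain ⟨S, hS⟩ := TensorProduct.exists_finset z
  obtain ⟨D, _, _, π, hD, hπ⟩ := exists_stage A B h
    (fun i : Fin S.card => ((S.equivFin.symm i : B × M)).1)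
  choose d hd using hπ
  haveI := hD
  letI : Algebra D B := π.toRingHom.toAlgebra
  haveI : IsScalarTower A D B := IsScalarTower.of_algebraMap_eq fun a => (π.commutes a).symm
  haveI : Algebra.WeaklyEtale D B := S7127.result A D B
  haveI : Module.Flat D B := Algebra.WeaklyEtale.flat
  let x : D ⊗[A] M := ∑ i : Fin S.card, d i ⊗ₜ[A] ((S.equivFin.symm i : B × M)).2
  let e := TensorProduct.AlgebraTensorModule.cancelBaseChange A D B B M
  have hx : e ((1 : B) ⊗ₜ[D] x) = z := by
    rw [hS, ← Finset.sum_coe_sort S, ← S.equivFin.symm.sum_comp]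
    simp only [x, TensorProduct.tmul_sum, map_sum]
    refine Finset.sum_congr rfl fun i _ => ?_
    rw [TensorProduct.AlgebraTensorModule.cancelBaseChange_tmul]
    show (algebraMap D B (d i) * 1) ⊗ₜ[A] _ = _
    rw [mul_one]
    exact congrArg (· ⊗ₜ[A] _) (hd i)
  let u := (IsLocalRing.maximalIdeal B).comap (algebraMap D B)
  haveI : (IsLocalRing.maximalIdeal B).LiesOver u := ⟨rfl⟩
  haveI : u.LiesOver (IsLocalRing.maximalIdeal A) := ⟨by
    show _ = (u.comap (algebraMap A D))
    rw [Ideal.comap_comap, ← IsScalarTower.algebraMap_eq]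
    exact hlo.over⟩
  refine (S1233.result M (IsLocalRing.maximalIdeal A) u).1 ⟨x, ⟨inferInstance, fun c hc => ?_⟩, ?_⟩
  · refine hle ((Submodule.mem_annihilator_span_singleton _ _).2 ?_)
    rw [← hx, ← map_smul, TensorProduct.smul_tmul', smul_eq_mul, mul_one, Algebra.algebraMap_eq_smul_one,
      TensorProduct.smul_tmul, (Submodule.mem_annihilator_span_singleton _ _).1 hc, TensorProduct.tmul_zero,
      map_zero]
  · rintro P ⟨hP, hxP⟩ hPu
    haveI := hP
    obtain ⟨P', hP'le, hP', hP'o⟩ :=
      Ideal.exists_ideal_le_liesOver_of_le (p := P) (q := u) (IsLocalRing.maximalIdeal B) hPu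
    have hmem : (Submodule.span B {z}).annihilator ≤ P' := by
      intro b hb
      have hb' : b • ((1 : B) ⊗ₜ[D] x) = 0 := e.injective (by
        rw [map_smul, hx, map_zero]
        exact (Submodule.mem_annihilator_span_singleton _ _).1 hb)
      exact Ideal.map_le_iff_le_comap.2 (hxP.trans hP'o.over.le) (mem_map_ann x b hb')
    have := hmin ⟨hP', hmem⟩ hP'le
    intro c hc
    rw [hP'o.over]
    exact this hc

end Groth.Agent.WEtAmpLib
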