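import Groth.Agent.DRingLib.Amplitude
import Groth.Agent.AbsFlat.Basic
import Groth.Agent.IndEtLib.Flat
import Groth.Agent.S12236
import Groth.Agent.S12237
import Groth.Prelude.Def_DDual2

/-!
# Tor amplitude along weakly étale ring maps
-/

set_option autoImplicit false

universe u

open CategoryTheory CategoryTheory.Limits HomologicalComplex

attribute [local instance] HasDerivedCategory.standard

namespace Groth.Agent.WEtAmpLib

variable {A B : Type u} [CommRing A] [CommRing B] [Algebra A B]

/-- Restriction of scalars on complexes. -/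
noncomputable abbrev resC : CochainComplex (ModuleCat.{u} B) ℤ ⥤ CochainComplex (ModuleCat.{u} A) ℤ :=
  (ModuleCat.restrictScalars (algebraMap A B)).mapHomologicalComplex (ComplexShape.up ℤ)

/-- `restrictD (Q P) ≅ Q (res P)`. -/
noncomputable def resQIso (P : CochainComplex (ModuleCat.{u} B) ℤ) :
    (DRing.restrictD (algebraMap A B)).obj (DerivedCategory.Q.obj P) ≅
      DerivedCategory.Q.obj (resC.obj P) :=
  ((ModuleCat.restrictScalars (algebraMap A B)).mapDerivedCategoryFactors).app P

theorem flat_res [Module.Flat A B] (M : ModuleCat.{u} B) (h : Module.Flat B M) :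
    Module.Flat A ((ModuleCat.restrictScalars (algebraMap A B)).obj M) := by
  letI : Module A M := Module.compHom M (algebraMap A B)
  haveI : IsScalarTower A B M := ⟨fun a b x => by
    show (a • b) • x = (algebraMap A B a) • b • x
    rw [Algebra.smul_def, mul_smul]⟩
  exact Module.Flat.trans A B M

theorem hasTorAmplitudeIn_restrict [Module.Flat A B] {K : Dual.D B} {a b : ℤ}
    (h : DRing.HasTorAmplitudeIn B a b K) :
    DRing.HasTorAmplitudeIn A a b ((DRing.restrictD (algebraMap A B)).obj K) := by
  obtain ⟨E, hE, hf, ⟨e⟩⟩ := h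
  exact ⟨resC.obj E, fun i hi => Functor.map_isZero (ModuleCat.restrictScalars (algebraMap A B)) (hE i hi), fun i => flat_res _ (hf i),
    ⟨(resQIso E).symm ≪≫ (DRing.restrictD (algebraMap A B)).mapIso e⟩⟩

theorem isZero_homology_of_res (P : CochainComplex (ModuleCat.{u} B) ℤ) (i : ℤ)
    (h : IsZero ((resC (A := A)).obj P |>.homology i)) : IsZero (P.homology i) := by
  rw [← exactAt_iff_isZero_homology] at h ⊢
  rw [exactAt_iff] at h ⊢
  exact (ShortComplex.exact_map_iff_of_faithful (P.sc i)
    (ModuleCat.restrictScalars (algebraMap A B))).mp h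

theorem isZero_homology_of_Hn {R : Type u} [CommRing R] (P : CochainComplex (ModuleCat.{u} R) ℤ) (i : ℤ)
    (h : IsZero ((DRingLib.Hn R i).obj (DerivedCategory.Q.obj P))) : IsZero (P.homology i) :=
  h.of_iso ((DerivedCategory.homologyFunctorFactors (ModuleCat.{u} R) i).app P).symm

theorem flat_of_res (hmul : (Algebra.TensorProduct.lmul' A (S := B)).Flat) (M : Type u)
    [AddCommGroup M] [Module B M] [Module A M] [IsScalarTower A B M] (h : Module.Flat A M) :
    Module.Flat B M :=
  AbsFlat.flat_of_flat_mul hmul M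

theorem hasTorAmplitudeIn_ascend [Module.Flat A B]
    (hmul : (Algebra.TensorProduct.lmul' A (S := B)).Flat) {K : Dual.D B} {a b : ℤ}
    (h : DRing.HasTorAmplitudeIn A a b ((DRing.restrictD (algebraMap A B)).obj K)) :
    DRing.HasTorAmplitudeIn B a b K := by
  obtain ⟨P₀, ⟨e₀⟩⟩ : ∃ P, Nonempty (DerivedCategory.Q.obj P ≅ K) :=
    ⟨_, ⟨DerivedCategory.Q.objObjPreimageIso K⟩⟩
  obtain ⟨E, hEv, hEf, ⟨eE⟩⟩ := id h
  have hK : ∀ i, b < i → IsZero ((DRingLib.Hn B i).obj K) := by
    intro i hi
    refine IsZero.of_iso ?_ ((DRingLib.Hn B i).mapIso e₀.symm)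
    refine DRingLib.isZero_Hn_of_homology (isZero_homology_of_res (A := A) P₀ i ?_)
    refine isZero_homology_of_Hn _ i ?_
    refine IsZero.of_iso (DRingLib.isZero_Hn_Q E i (hEv i (Or.inr hi))) ?_
    exact (DRingLib.Hn A i).mapIso
      ((resQIso P₀).symm ≪≫ (DRing.restrictD (algebraMap A B)).mapIso e₀ ≪≫ eE.symm)
  obtain ⟨F, hFb, hFf, ⟨eF⟩⟩ := DRingLib.exists_free_rep K b hK
  have hFflat : ∀ i, Module.Flat B (F.X i) := fun i => by have := hFf i; infer_instance
  have hRflat : ∀ i, Module.Flat A (((resC (A := A)).obj F).X i) := fun i => flat_res _ (hFflat i)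
  have hAmp : DRingLib.Amp a b ((resC (A := A)).obj F) :=
    DRingLib.amp_of_hasTorAmplitudeIn h
      (KFlatLib.isKFlat_of_bounded_flat _ b (fun i hi => Functor.map_isZero (ModuleCat.restrictScalars (algebraMap A B)) (hFb i hi)) hRflat)
      ((resQIso F).symm ≪≫ (DRing.restrictD (algebraMap A B)).mapIso eF)
  -- coker in degree `a`
  have hcoker : Module.Flat B (F.X a ⧸ LinearMap.range (F.d (a - 1) a).hom) := by
    letI : Module A (F.X a) := Module.compHom (F.X a) (algebraMap A B)
    haveI : IsScalarTower A B (F.X a) := ⟨fun r x m => by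
      show (r • x) • m = (algebraMap A B r) • x • m
      rw [Algebra.smul_def, mul_smul]⟩
    have := hRflat a
    have h1 := KFlatLib.flat_coker_of_homology ((resC (A := A)).obj F) a
      fun N => hAmp N (a - 1) (Or.inl (by omega))
    refine flat_of_res hmul _ ?_
    refine @Module.Flat.of_linearEquiv A _ _ _ _ _ _ _ h1 ?_
    exact (Submodule.Quotient.restrictScalarsEquiv A (LinearMap.range (F.d (a - 1) a).hom)).symm
  refine ⟨F.truncGE a, DRingLib.vanishesOutside_truncGE hFb a, fun i => ?_, ⟨?_⟩⟩
  · rcases lt_trichotomy i a with hi | hi | hi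
    · have := DRingLib.free_of_isZero (CochainComplex.isZero_of_isStrictlyGE (F.truncGE a) a i hi)
      infer_instance
    · subst hi
      exact Module.Flat.of_linearEquiv (DRingLib.truncGEXCoker F i).toLinearEquiv
    · have := hFflat i
      exact Module.Flat.of_linearEquiv (F.truncGEXIso a i hi).toLinearEquiv
  · have hGE : F.IsGE a := by
      rw [CochainComplex.isGE_iff]
      intro i hi
      rw [exactAt_iff_isZero_homology]
      exact isZero_homology_of_res (A := A) F i (DRingLib.isZero_homology_of_amp hAmp i (Or.inl hi))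
    have : QuasiIso (F.πTruncGE a) := (CochainComplex.quasiIso_πTruncGE_iff F a).mpr hGE
    exact (asIso (DerivedCategory.Q.map (F.πTruncGE a))).symm ≪≫ eF

variable (A)

theorem weaklyEtale_hens [IsLocalRing A] [IsLocalRing B] [IsLocalHom (algebraMap A B)]
    [Hensel.IsHenselization A B] : Algebra.WeaklyEtale A B :=
  IndEtLib.weaklyEtale_of_isIndEtale A B (S12236.result A B)

theorem weaklyEtale_sh [IsLocalRing A] [IsLocalRing B] [IsLocalHom (algebraMap A B)]
    [Hensel.IsStrictHenselization A B] : Algebra.WeaklyEtale A B :=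
  IndEtLib.weaklyEtale_of_isIndEtale A B (S12237.result A B)

end Groth.Agent.WEtAmpLib
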